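import Cfsg.Agent.H0.TC
set_option maxRecDepth 100000
namespace H0.TCL341
open H0
noncomputable def r0 : TC.WTr := (.node (.node (.node (.node (.node (.node (.leaf [1] 0 0 false) (.leaf [8, 7, 8] 21 1 true)) (.leaf [2] 2 1 false)) (.node (.node (.leaf [0] 0 1 false) (.leaf [5, 7, 5, 4] 12 0 true)) (.leaf [9, 4, 5, 6] 12 3 false))) (.node (.node (.node (.leaf [1] 0 0 false) (.leaf [9] 8 0 false)) (.leaf [3, 4, 5, 9, 0, 8] 38 5 true)) (.node (.node (.leaf [3] 2 0 false) (.leaf [8] 8 1 false)) (.leaf [1, 6, 5, 0, 3] 33 2 false)))) (.node (.node (.node (.node (.leaf [9, 7, 1, 5, 6] 34 0 false) (.leaf [0, 7, 2, 1, 5] 33 1 true)) (.leaf [4] 4 0 false)) (.node (.node (.leaf [0, 2, 6] 26 1 true) (.leaf [6, 0, 2, 8, 3] 36 4 false)) (.leaf [5] 5 0 false))) (.node (.node (.node (.leaf [9, 3, 9, 5, 6] 30 0 false) (.leaf [1, 7, 5, 0, 6] 34 4 true)) (.leaf [4] 4 0 false)) (.node (.leaf [3, 7, 4, 0,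 4] 35 2 false) (.leaf [7] 6 0 false))))) (.node (.node (.node (.node (.node (.leaf [3, 0, 2, 0, 5] 25 0 false) (.leaf [1, 5, 6, 0, 9] 34 2 false)) (.leaf [2] 2 1 false)) (.node (.node (.leaf [3] 2 0 false) (.leaf [4, 5, 6, 5] 12 4 false)) (.leaf [7, 5, 4, 8] 12 1 true))) (.node (.node (.node (.leaf [3, 7, 3] 26 1 false) (.leaf [3, 9, 6, 0, 2] 36 2 false)) (.leaf [5, 0, 5, 4, 0] 32 0 true)) (.node (.leaf [3] 2 0 false) (.leaf [6, 6] 11 0 false)))) (.node (.node (.node (.node (.leaf [4, 6, 0, 4, 6] 31 2 true) (.leaf [6] 6 1 false)) (.leaf [5, 4, 5] 13 0 false)) (.node (.node (.leaf [1, 4, 1, 3, 0] 24 4 true) (.leaf [7, 1, 5, 6, 0] 34 1 false)) (.leaf [7] 6 0 false))) (.node (.node (.node (.leaf [6, 5, 0, 3, 6] 33 3 false) (.leaf [7, 8, 7] 21 0 true)) (.leaf [0, 0, 4, 1, 1] 37 5 false)) (.node (.leaf [3, 3, 3, 3] 23 0 true) (.leaf [7] 6 0 false))))))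
noncomputable def r1 : TC.WTr := (.node (.node (.node (.node (.node (.node (.leaf [0, 0, 0] 22 0 false) (.leaf [3, 1, 3] 26 3 false)) (.leaf [2] 2 1 false)) (.node (.node (.leaf [0] 0 1 false) (.leaf [8] 8 1 false)) (.leaf [7, 5, 7, 5, 7] 18 1 true))) (.node (.node (.node (.leaf [0] 0 1 false) (.leaf [0, 7, 5, 8, 2] 30 4 true)) (.leaf [7, 4, 7, 4, 7] 15 1 true)) (.node (.node (.leaf [3] 2 0 false) (.leaf [8] 8 1 false)) (.leaf [0, 4, 6, 0, 4] 31 1 true)))) (.node (.node (.node (.node (.leaf [2, 1, 4, 1, 3] 24 3 true) (.leaf [6] 6 1 false)) (.leaf [1, 1, 5, 0, 0] 37 2 false)) (.node (.node (.leaf [1, 5, 7, 0, 7] 33 4 true) (.leaf [9, 9] 10 0 true)) (.leaf [5] 5 0 false))) (.node (.node (.node (.leaf [5, 4, 1, 4, 5] 32 3 false) (.leaf [2, 8, 0, 7, 5] 30 2 true)) (.leaf [5] 5 0 false)) (.node (.leaf [7, 4, 0, 4, 3] 35 3 false) (.leaf [7] 6 0 false))))) (.node (.node (.node (.node (.node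 (.leaf [4, 1, 1, 5, 0] 37 1 false) (.leaf [7, 7] 11 0 true)) (.leaf [2] 2 1 false)) (.node (.node (.leaf [6, 2, 0] 26 3 true) (.leaf [6, 9, 6] 21 1 false)) (.leaf [0, 3, 6, 1, 6] 33 5 false))) (.node (.node (.node (.leaf [2, 0, 4, 0, 3] 24 2 false) (.leaf [8, 8] 10 0 false)) (.leaf [2, 4, 9, 1, 8, 5] 38 6 false)) (.node (.leaf [2] 2 1 false) (.leaf [5, 9, 4, 5] 12 2 false)))) (.node (.node (.node (.node (.leaf [7, 2, 1, 5, 7] 33 2 true) (.leaf [6] 6 1 false)) (.leaf [5, 9, 0, 8, 4, 3] 38 0 true)) (.node (.node (.leaf [2, 2, 2, 2] 23 0 false) (.leaf [5, 6, 1, 9, 3] 30 3 false)) (.leaf [2, 0, 2] 26 0 true))) (.node (.node (.node (.leaf [7, 4, 1, 7, 4] 31 0 false) (.leaf [4, 3, 4, 5, 9, 0] 38 4 true)) (.leaf [1, 5, 4, 1, 4] 32 2 false)) (.node (.leaf [1, 3, 7] 26 0 false) (.leaf [6] 6 1 false))))))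
noncomputable def tS : Tr := (.leaf (nat_lit 0xffe1a794620b5df81ca63f61921fff6f6070b477729f25d93c53db5ffd4d5d90d4f13865c58061ca8bfff38177545495110a548e506123ffd8c1a05c05d1f210e55389f59bff59499420f605cad58d664e536ffcae5941616097309171fc9253bff160e50fc734a49b5281615c43ffc151686f20cad0fd2e4253c41fff1bc3d05457338f41f5605387effcd43413c4a415289003fcd0163ff2f4701c43e1e8150fc751b4bdffc6b1fc6e0f53b6d4990545c1c3ff1983f4484039928054c7258adffe077784f13869104fb1b8150fbff21d0015926590e60e4000ac38ffc560a8371703616c0016123103ff0fc5616035250bd0d12315400ffc5a0cc570c8310c02f0b8000b7ff0000000000000000601705815))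
noncomputable def tJ : Tr := (.leaf (nat_lit 0x60054b4543677038b0670256206022033c001057001604c160064d454300505535d205427000a4300230203020503a2590b3100400057004b4300004504050b200024010032b1003202002000b0030020100b0001000001121b1200000030a1030010000a00000030000010a1000000000a0009999990000))
noncomputable def tQ : Tr := (.leaf (nat_lit 0x0))
noncomputable def tR : TC.WTr := (.node r0 r1)
def hl : List ℕ := [4, 5, 6, 7, 7, 6, 8, 9, 9, 8]
def B : List (List ℕ) := [[0, 1], [1, 0], [2, 3], [3, 2], [4, 4], [5, 5], [6, 7], [7, 6], [8, 9], [9, 8], [8, 8, 8], [6, 6, 6], [4, 5, 6, 5, 9], [4, 5, 4, 5], [4, 5, 4, 5], [4, 6, 4, 6, 4, 6], [4, 6, 4, 7, 4, 6, 4, 7], [4, 7, 4, 7, 4, 7], [5, 6, 5, 6, 5, 6], [5, 6, 5, 7, 5, 6, 5, 7], [5, 7, 5, 7, 5, 7], [6, 9, 6, 9], [0, 0, 0, 0], [2, 2, 2, 2, 2], [0, 3, 1, 2, 0, 4], [0, 3, 0, 2, 0, 5], [3, 1, 3, 7], [0, 2, 0, 2, 0, 2, 0, 2, 0, 2], [0, 2, 1, 3, 0, 2, 1,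 3, 0, 2, 1, 3], [0, 3, 0, 3, 0, 3, 0, 3, 0, 3], [1, 9, 3, 9, 5, 6], [1, 7, 4, 1, 7, 4], [1, 4, 5, 1, 5, 4], [0, 3, 6, 1, 6, 5], [0, 9, 7, 1, 5, 6], [0, 4, 3, 3, 7, 4], [0, 2, 8, 3, 9, 6], [0, 0, 4, 1, 1, 5], [2, 4, 9, 1, 8, 5, 4]]
def subs : List (List ℕ) := [[4], [5], [6], [7], [8], [9]]
def ex : List (List ℕ) := []
def inv (x : ℕ) : ℕ := [1, 0, 3, 2, 4, 5, 7, 6, 9, 8].getD x 0
noncomputable def rS : ℕ → ℕ := rowOf tS (nat_lit 7) (nat_lit 127) (nat_lit 110) (nat_lit 1298074214633706907132624082305023)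
noncomputable def rJ : ℕ → ℕ := rowOf tJ (nat_lit 7) (nat_lit 127) (nat_lit 48) (nat_lit 281474976710655)
noncomputable def C : TC.Cfg where
  S := look rS (nat_lit 10) (nat_lit 1023)
  J := look rJ (nat_lit 4) (nat_lit 15)
  Q := lookQ tQ (nat_lit 7) (nat_lit 1) (nat_lit 1)
  R := tR.get
  hl := fun x => hl.contains x
  n := (nat_lit 20)
  M := (nat_lit 20)
  top := (nat_lit 560)
  nl := (nat_lit 10)
  need := (nat_lit 10)
  nr := (nat_lit 9)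
theorem k0 : TC.chkRange C 0 1 = true := by decide +kernel
theorem rows0 : ∀ c < (0 + 1) * 64, c < C.M → TC.chkRow C c = true :=
  TC.rows_step (TC.rows_zero C) k0
theorem main {G : Type*} [Group G] (g : ℕ → G) (hB : ∀ r ∈ B, ev g r = 1) (H : Subgroup G)
    (hH : ∀ w ∈ subs, ev g w ∈ H) :
    H.relIndex (Subgroup.closure (g '' {x | x < 10})) ≠ 0 ∧
      H.relIndex (Subgroup.closure (g '' {x | x < 10})) ≤ 20 :=
  TC.index_le C B subs ex inv hl tR.hint rfl (by decide +kernel) (by decide +kernel)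
    (TC.rows_done rows0 (by decide +kernel)) g hB H hH
end H0.TCL341
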